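import Cfsg.Agent.Lib.Dickson.Main

/-!
Subgroups of `SL₂(F)` with a large group of upper transvections and a lower transvection.
-/

set_option autoImplicit false

namespace Cfsg.Agent.MaxSub.SubfieldMax

open Matrix OnePoint
open scoped MatrixGroups Classical
open Cfsg.Agent.PLocalB (upper lower)
open Cfsg.Agent.Dickson (PSL2)

attribute [local instance] Cfsg.Agent.PLocalB.lineAction Cfsg.Agent.Dickson.pslLine

variable {F : Type*} [Field F]

theorem trace_sq_mem (T : Subfield F) (D : Matrix.ProjGenLinGroup (Fin 2) F) {N : SL(2, F)}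
    (h : D⁻¹ * Matrix.ProjectiveSpecialLinearGroup.toPGL (QuotientGroup.mk N : PSL2 F) * D ∈
      (Matrix.ProjGenLinGroup.map (n := Fin 2) T.subtype).range) :
    (N 0 0 + N 1 1) ^ 2 ∈ T := by
  obtain ⟨x, hx⟩ := h
  obtain ⟨m, rfl⟩ := Matrix.ProjGenLinGroup.mk_surjective x
  obtain ⟨M, rfl⟩ := Matrix.ProjGenLinGroup.mk_surjective D
  rw [Matrix.ProjGenLinGroup.map_mk] at hx
  have hx' : Matrix.ProjGenLinGroup.mk (Matrix.GeneralLinearGroup.map T.subtype m) =
      Matrix.ProjGenLinGroup.mk (M⁻¹ * Matrix.SpecialLinearGroup.toGL N * M) := hx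
  obtain ⟨s, hs⟩ : ∃ s : Fˣ, Matrix.GeneralLinearGroup.scalar (Fin 2) s =
      (M⁻¹ * Matrix.SpecialLinearGroup.toGL N * M)⁻¹ * Matrix.GeneralLinearGroup.map T.subtype m := by
    have h2 : (M⁻¹ * Matrix.SpecialLinearGroup.toGL N * M)⁻¹ *
        Matrix.GeneralLinearGroup.map T.subtype m ∈ Subgroup.center (GL (Fin 2) F) :=
      Matrix.ProjGenLinGroup.mk_eq_one.1 (by rw [map_mul, map_inv, hx', inv_mul_cancel])
    rw [Matrix.GeneralLinearGroup.center_eq_range_scalar] at h2
    exact h2
  have hm : (Matrix.GeneralLinearGroup.map T.subtype m : GL (Fin 2) F) =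
      M⁻¹ * Matrix.SpecialLinearGroup.toGL N * M * Matrix.GeneralLinearGroup.scalar (Fin 2) s := by
    rw [hs, mul_inv_cancel_left]
  have hmat : (m : Matrix (Fin 2) (Fin 2) T).map T.subtype =
      (s : F) • (((M⁻¹ : GL (Fin 2) F) : Matrix (Fin 2) (Fin 2) F) * N * M) := by
    have := congrArg Units.val hm
    simp only [Units.val_mul, Matrix.GeneralLinearGroup.coe_scalar] at this
    rw [Matrix.scalar_apply] at this
    rw [Matrix.smul_eq_mul_diagonal]
    exact this
  have htr : T.subtype (m : Matrix (Fin 2) (Fin 2) T).trace = (s : F) * (N 0 0 + N 1 1) := by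
    have := congrArg Matrix.trace hmat
    rw [Matrix.trace_smul, Matrix.trace_mul_comm, ← mul_assoc, Units.mul_inv, one_mul,
      smul_eq_mul] at this
    simp only [Matrix.trace_fin_two, Matrix.map_apply] at this ⊢
    rw [map_add]; exact this
  have hdet : T.subtype (m : Matrix (Fin 2) (Fin 2) T).det = (s : F) ^ 2 := by
    have := congrArg Matrix.det hmat
    rw [Matrix.det_smul, Matrix.det_mul, Matrix.det_mul, mul_right_comm, ← Matrix.det_mul,
      Units.inv_mul, Matrix.det_one, one_mul, Matrix.SpecialLinearGroup.det_coe, mul_one,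
      Fintype.card_fin] at this
    rw [RingHom.map_det]; exact this
  have : (N 0 0 + N 1 1) ^ 2 = T.subtype ((m : Matrix (Fin 2) (Fin 2) T).trace ^ 2 /
      (m : Matrix (Fin 2) (Fin 2) T).det) := by
    rw [map_div₀, map_pow, htr, hdet]
    field_simp
  rw [this]
  exact ((m : Matrix (Fin 2) (Fin 2) T).trace ^ 2 / (m : Matrix (Fin 2) (Fin 2) T).det).2

/-- A prime power dividing `12`, `24` or `60` is less than `16`. -/
theorem primePow_lt_sixteen {p k N : ℕ} (hp : p.Prime) (hN : N = 12 ∨ N = 24 ∨ N = 60)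
    (h : p ^ k ∣ N) : p ^ k < 16 := by
  rcases Nat.eq_zero_or_pos k with rfl | hk
  · norm_num
  have hpN : p ∣ N := (dvd_pow_self p hk.ne').trans h
  have hp5 : p ≤ 5 := by
    by_contra hlt
    have h' : p ∣ 120 := by
      rcases hN with rfl | rfl | rfl <;> exact hpN.trans (by norm_num)
    rcases (Nat.Prime.dvd_mul hp).1 (show p ∣ 8 * 15 by norm_num; exact h') with h8 | h15
    · have := Nat.le_of_dvd (by norm_num) ((hp.dvd_of_dvd_pow (m := 2) (n := 3) (by norm_num; exact h8)))
      omega
    · rcases (Nat.Prime.dvd_mul hp).1 (show p ∣ 3 * 5 by norm_num; exact h15) with h3 | h5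
      · have := Nat.le_of_dvd (by norm_num) h3; omega
      · have := Nat.le_of_dvd (by norm_num) h5; omega
  have hk5 : k ≤ 5 := by
    by_contra hlt
    have : 2 ^ 6 ≤ p ^ k := (Nat.pow_le_pow_right (by norm_num) (by omega)).trans
      (Nat.pow_le_pow_left hp.two_le k)
    have := Nat.le_of_dvd (by omega) h
    omega
  interval_cases p <;> interval_cases k <;>
    rcases hN with rfl | rfl | rfl <;> norm_num at *

/-- No elementary abelian group of order eight embeds in the symmetric group of degree four. -/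
theorem not_elemAb_eight {A : Type*} [CommGroup A] [Finite A] (h8 : Nat.card A = 8)
    (h2 : ∀ x : A, x ^ 2 = 1) (f : A →* Equiv.Perm (Fin 4)) (hf : Function.Injective f) : False := by
  have := Fintype.ofFinite A
  rw [Nat.card_eq_fintype_card] at h8
  obtain ⟨a, ha⟩ := Fintype.exists_ne_of_one_lt_card (by omega) (1 : A)
  have key : ∀ y : Equiv.Perm (Fin 4), y ≠ 1 → y * y = 1 →
      (Finset.univ.filter fun x : Equiv.Perm (Fin 4) => x * x = 1 ∧ x * y = y * x).card ≤ 6 := by
    decide
  have h := key (f a) (fun h => ha (hf (h.trans (map_one f).symm)))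
    (by rw [← map_mul, ← sq, h2, map_one])
  have h' := Finset.card_le_card_of_injOn f (s := Finset.univ)
    (t := Finset.univ.filter fun x : Equiv.Perm (Fin 4) => x * x = 1 ∧ x * f a = f a * x)
    (fun x _ => Finset.mem_filter.2 ⟨Finset.mem_univ _, by rw [← map_mul, ← sq, h2, map_one],
      by rw [← map_mul, ← map_mul, mul_comm]⟩) hf.injOn
  rw [Finset.card_univ] at h'
  omega

theorem sl2_full [Fintype F] (p : ℕ) [Fact p.Prime] [CharP F p] (F₀ : Subfield F)
    (htop : ∀ T : Subfield F, F₀ ≤ T → T = F₀ ∨ T = ⊤) (H : Subgroup SL(2, F))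
    (U : AddSubgroup F) (hU : ∀ s ∈ U, upper s ∈ H) (hsmul : ∀ c ∈ F₀, ∀ s ∈ U, c * s ∈ U)
    (h8 : 8 ≤ Nat.card U) (h2p : 2 * p < Nat.card U) {a : F} (hl : lower a ∈ H)
    (hnr : ∃ s ∈ U, a * s ∉ F₀) : ∀ A : SL(2, F), A ∈ H ∨ -A ∈ H := by
  obtain ⟨s₀, hs₀, has₀⟩ := hnr
  have ha0 : a ≠ 0 := fun h => has₀ (by rw [h, zero_mul]; exact zero_mem _)
  have hs0 : s₀ ≠ 0 := fun h => has₀ (by rw [h, mul_zero]; exact zero_mem _)
  let π : SL(2, F) →* PSL2 F := QuotientGroup.mk' _
  let K := H.map π
  let ε : Multiplicative U →* K := MonoidHom.mk'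
    (fun u => ⟨π (upper (Multiplicative.toAdd u : U)), _, hU _ (Multiplicative.toAdd u).2, rfl⟩)
    fun u v => Subtype.ext (by
      show π _ = π _ * π _
      rw [← map_mul, PLocalB.upper_mul]; rfl)
  have hε : Function.Injective ε := by
    intro u v h
    have h' : π (upper (Multiplicative.toAdd u : U)) = π (upper (Multiplicative.toAdd v : U)) :=
      congrArg Subtype.val h
    rcases Dickson.mk_eq_mk_iff.1 h' with e | e
    · have := congrArg (fun M : SL(2, F) => M 0 1) e
      simp at this
      exact this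
    · have h11 := congrArg (fun M : SL(2, F) => M 1 1) e
      have h01 := congrArg (fun M : SL(2, F) => M 0 1) e
      simp at h11 h01
      have h2 : (2 : F) = 0 := by linear_combination h11
      refine Multiplicative.toAdd.injective (Subtype.ext ?_)
      linear_combination h01 - ((Multiplicative.toAdd v : U) : F) * h2
  have hcardK : Nat.card U ≤ Nat.card K :=
    (Nat.card_congr Multiplicative.toAdd.symm).trans_le (Nat.card_le_card_of_injective ε hε)
  have hexp : ∀ u : Multiplicative U, u ^ p = 1 := by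
    intro u
    refine Multiplicative.toAdd.injective (Subtype.ext ?_)
    simp
  have hpoly : ∀ {N : ℕ}, (N = 12 ∨ N = 24 ∨ N = 60) → Nat.card K = N →
      N = 24 ∧ Nat.card U = 8 ∧ p = 2 := by
    intro N hN hKN
    have hpg : IsPGroup p (Multiplicative U) := fun u => ⟨1, by simpa using hexp u⟩
    obtain ⟨k, hk⟩ := hpg.exists_card_eq
    rw [Nat.card_congr (Multiplicative.toAdd (α := U))] at hk
    have hd : p ^ k ∣ N := hk ▸ hKN ▸
      (Nat.card_congr (Multiplicative.toAdd (α := U))) ▸ Subgroup.card_dvd_of_injective ε hε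
    have hlt : Nat.card U < 16 := hk ▸ primePow_lt_sixteen Fact.out hN hd
    rw [hk] at hlt h8 ⊢
    generalize hm : p ^ k = m at hlt h8 hd ⊢
    have hpp : IsPrimePow m := by
      refine (isPrimePow_nat_iff _).2 ⟨p, k, Fact.out, ?_, hm⟩
      rcases Nat.eq_zero_or_pos k with rfl | hk'
      · simp at hm; omega
      · exact hk'
    have hm8 : m = 8 ∧ N = 24 := by
      rcases hN with rfl | rfl | rfl <;> interval_cases m <;>
        first
          | exact ⟨rfl, rfl⟩
          | exact absurd hd (by decide)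
          | exact absurd hpp (by norm_num [isPrimePow_nat_iff_bounded]; decide)
    refine ⟨hm8.2, hm8.1, ?_⟩
    have hp8 : p ∣ 8 := by
      rw [← hm8.1, ← hm]
      refine dvd_pow_self p fun hk0 => ?_
      rw [hk0, pow_zero] at hm; omega
    exact (Nat.prime_dvd_prime_iff_eq Fact.out Nat.prime_two).1
      ((Fact.out : p.Prime).dvd_of_dvd_pow (m := 2) (n := 3) hp8)
  rcases Dickson.kind' p K with ⟨k, -, hcyc, -⟩ | ⟨t, ht⟩ | ⟨n, -, -, ⟨e⟩⟩ | ⟨⟨e⟩⟩ | ⟨⟨e⟩⟩ |
      ⟨⟨e⟩⟩ | ⟨T, -, -, hiso, -, D, hD⟩
  · exfalso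
    have : IsCyclic (Multiplicative U) := isCyclic_of_injective ε hε
    obtain ⟨g, hg⟩ := IsCyclic.exists_ofOrder_eq_natCard (α := Multiplicative U)
    have h1 : orderOf g ≤ p := Nat.le_of_dvd (Fact.out : p.Prime).pos
      (orderOf_dvd_of_pow_eq_one (hexp g))
    rw [hg, Nat.card_congr Multiplicative.toAdd] at h1
    omega
  · exfalso
    have hu := ht _ (Subgroup.mem_map_of_mem π (hU s₀ hs₀))
    have hlw := ht _ (Subgroup.mem_map_of_mem π hl)
    rw [mul_smul, mul_smul, smul_eq_iff_eq_inv_smul] at hu hlw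
    generalize t⁻¹ • (∞ : OnePoint F) = w at hu hlw
    have hu' : upper s₀ • w = w := hu
    have hl' : lower a • w = w := hlw
    cases w with
    | infty =>
      rw [PLocalB.smul_infty_iff] at hl'
      simp [lower] at hl'
      exact ha0 hl'
    | coe z =>
      rw [PLocalB.smul_coe_eq, if_neg (by simp)] at hu'
      simp at hu'
      exact hs0 hu'
  · exfalso
    let f : Multiplicative U →* DihedralGroup n := e.toMonoidHom.comp ε
    have hf : Function.Injective f := e.injective.comp hε
    let R : Subgroup (DihedralGroup n) := Subgroup.zpowers (DihedralGroup.r 1)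
    have : Finite (DihedralGroup n) := Finite.of_equiv K e.toEquiv
    have hR2 : R.index ≤ 2 := by
      have h1 : orderOf (DihedralGroup.r 1 : DihedralGroup n) = n := DihedralGroup.orderOf_r_one
      have h2 := R.card_mul_index
      rw [Nat.card_zpowers, h1, DihedralGroup.nat_card] at h2
      rcases Nat.eq_zero_or_pos n with rfl | hn
      · rw [mul_comm] at h2
        have := (R.index_ne_zero_of_finite)
        exact absurd (Nat.card_pos (α := DihedralGroup 0)) (by simp)
      · rw [mul_comm 2] at h2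
        exact (Nat.eq_of_mul_eq_mul_left hn h2).le
    have hcycR : IsCyclic (R.comap f) := by
      let f' : R.comap f →* R := (f.comp (R.comap f).subtype).codRestrict R fun x => x.2
      exact isCyclic_of_injective f' fun x y h =>
        Subtype.ext (hf (congrArg Subtype.val h :))
    obtain ⟨g, hg⟩ := IsCyclic.exists_ofOrder_eq_natCard (α := R.comap f)
    have h1 : orderOf g ≤ p := Nat.le_of_dvd (Fact.out : p.Prime).pos
      (orderOf_dvd_of_pow_eq_one (Subtype.ext (by simpa using hexp g)))
    have h3 : (R.comap f).index ≤ 2 := by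
      rw [Subgroup.index_comap]
      rw [← R.relIndex_top_right] at hR2
      exact (Subgroup.relIndex_le_of_le_right le_top (by
        rw [Subgroup.relIndex_top_right]; exact R.index_ne_zero_of_finite)).trans hR2
    have h4 := (R.comap f).card_mul_index
    rw [← hg, Nat.card_congr Multiplicative.toAdd] at h4
    have := Nat.mul_le_mul h1 h3
    omega
  · exact absurd (hpoly (N := 12) (Or.inl rfl) ((Nat.card_congr e.toEquiv).trans
      (by rw [Nat.card_eq_fintype_card]; decide))).1 (by norm_num)
  · obtain ⟨-, hU8, hp2⟩ := hpoly (N := 24) (Or.inr (Or.inl rfl))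
      ((Nat.card_congr e.toEquiv).trans (by rw [Nat.card_perm, Nat.card_fin]; rfl))
    exact (not_elemAb_eight ((Nat.card_congr Multiplicative.toAdd).trans hU8)
      (fun x => hp2 ▸ hexp x) (e.toMonoidHom.comp ε) (e.injective.comp hε)).elim
  · exact absurd (hpoly (N := 60) (Or.inr (Or.inr rfl))
      ((Nat.card_congr e.toEquiv).trans (by rw [Nat.card_eq_fintype_card]; decide))).1 (by norm_num)
  · have hmem : ∀ s ∈ U, (2 + a * s) ^ 2 ∈ T := by
      intro s hs
      have h := trace_sq_mem T D (hD _ (Subgroup.mem_map_of_mem π (mul_mem (hU s hs) hl)))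
      convert h using 2
      simp [Matrix.mul_apply, Fin.sum_univ_two]
      ring
    have hlin : ∀ s ∈ U, a * s ∈ T := by
      intro s hs
      by_cases h2 : (2 : F) = 0
      · have := hmem s hs
        rw [h2, zero_add] at this
        have hsqT : (a * s) ^ 2 ∈ T := this
        have : CharP F 2 := CharTwo.of_one_ne_zero_of_two_eq_zero one_ne_zero h2
        obtain ⟨z, hz⟩ := (FiniteField.isSquare_of_char_two
          (ringChar.eq T 2) ⟨_, hsqT⟩ : IsSquare (⟨_, hsqT⟩ : T))
        have hz' : (a * s) ^ 2 = (z : F) ^ 2 := by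
          have := congrArg Subtype.val hz
          simpa [sq] using this
        rw [(CharTwo.sq_injective hz' : a * s = z)]
        exact z.2
      · have h1 := sub_mem (hmem s hs) (hmem (-s) (neg_mem hs))
        have h8 : (8 : F) ≠ 0 := by
          rw [show (8 : F) = 2 ^ 3 by norm_num]; exact pow_ne_zero _ h2
        have h8T : (8 : F) ∈ T := natCast_mem T 8
        have := div_mem h1 h8T
        convert this using 1
        field_simp
        ring
    have hF₀ : F₀ ≤ T := by
      intro c hc
      have h := div_mem (hlin _ (hsmul c hc s₀ hs₀)) (hlin s₀ hs₀)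
      rwa [show a * (c * s₀) / (a * s₀) = c by field_simp] at h
    have hT : T = ⊤ := (htop T hF₀).resolve_left fun h => has₀ (h ▸ hlin s₀ hs₀)
    subst hT
    have hK : K = ⊤ := by
      refine Subgroup.eq_top_of_le_card K ?_
      let f : F →+* (⊤ : Subfield F) := (RingHom.id F).codRestrict _ fun _ => trivial
      refine le_trans (Nat.card_le_card_of_injective _ (Dickson.extend_injective f)) ?_
      rcases hiso with ⟨⟨e⟩⟩ | ⟨⟨e⟩⟩
      · exact (Nat.card_congr e.toEquiv).ge
      · have := Finite.of_equiv K e.toEquiv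
        exact (Nat.card_le_card_of_injective _
          Matrix.ProjectiveSpecialLinearGroup.toPGL_injective).trans (Nat.card_congr e.toEquiv).ge
    intro A
    obtain ⟨B, hB, hBA⟩ : π A ∈ K := hK ▸ Subgroup.mem_top _
    rcases Dickson.mk_eq_mk_iff.1 hBA with e | e
    · exact Or.inl (e ▸ hB)
    · exact Or.inr (e ▸ hB)

end Cfsg.Agent.MaxSub.SubfieldMax
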