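import Cfsg.Agent.MaxSub.Basic
import Cfsg.Agent.MaxSub.SubfieldMax.SL2

/-!
Subgroups of `GL(ι, F)` containing the transvections over a subfield of prime index
and one further transvection.
-/

set_option autoImplicit false

namespace Cfsg.Agent.MaxSub.SubfieldMax

open Matrix
open scoped MatrixGroups Classical
open Cfsg.Agent.PLocalB (upper lower)

variable {ι : Type} [Fintype ι] [DecidableEq ι] {F : Type*} [Field F]

/-- A vector with all its coordinates in `F₀`. -/
def IsRat (F₀ : Subfield F) (v : ι → F) : Prop := ∀ i, v i ∈ F₀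

variable {F₀ : Subfield F}

theorem isRat_single (i : ι) {c : F} (hc : c ∈ F₀) : IsRat F₀ (Pi.single i c : ι → F) := by
  intro l
  by_cases h : l = i
  · subst h; rwa [Pi.single_eq_same]
  · rw [Pi.single_eq_of_ne h]; exact zero_mem _

/-- A rational vector orthogonal to a rational `η`, supported on two given coordinates. -/
theorem exists_orth {η : ι → F} (hη : IsRat F₀ η) {a b : ι} (hab : a ≠ b) :
    ∃ e : ι → F, IsRat F₀ e ∧ e ≠ 0 ∧ η ⬝ᵥ e = 0 ∧ ∀ l, l ≠ a → l ≠ b → e l = 0 := by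
  by_cases h : η a = 0
  · refine ⟨Pi.single a 1, isRat_single a (one_mem _), by simp, by simp [h], fun l hl _ => ?_⟩
    exact Pi.single_eq_of_ne hl _
  · refine ⟨Pi.single a (η b) - Pi.single b (η a), fun l => ?_, fun h0 => h ?_, ?_, fun l h1 h2 => ?_⟩
    · exact sub_mem (isRat_single a (hη b) l) (isRat_single b (hη a) l)
    · have := congrFun h0 b
      simpa [Pi.single_eq_of_ne hab.symm] using this
    · simp [dotProduct_sub, mul_comm]
    · simp [Pi.single_eq_of_ne h1, Pi.single_eq_of_ne h2]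

theorem exists_third (h3 : 3 ≤ Fintype.card ι) (a b : ι) : ∃ c : ι, c ≠ a ∧ c ≠ b := by
  by_contra h
  push Not at h
  have : (Finset.univ : Finset ι) ⊆ {a, b} := fun c _ => by
    by_cases e : c = a
    · simp [e]
    · simp [h c e]
  have := Finset.card_le_card this
  rw [Finset.card_univ] at this
  have := Finset.card_le_two (a := a) (b := b)
  omega

theorem exists_two_others (h4 : 4 ≤ Fintype.card ι) (a b : ι) :
    ∃ c d : ι, c ≠ d ∧ c ≠ a ∧ c ≠ b ∧ d ≠ a ∧ d ≠ b := by
  obtain ⟨c, hca, hcb⟩ := exists_third (by omega) a b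
  by_contra h
  push Not at h
  have : (Finset.univ : Finset ι) ⊆ {a, b, c} := fun d _ => by
    by_cases h1 : d = c
    · simp [h1]
    by_cases h2 : d = a
    · simp [h2]
    simp [h c d (Ne.symm h1) hca hcb h2]
  have := Finset.card_le_card this
  rw [Finset.card_univ] at this
  have := Finset.card_le_three (a := a) (b := b) (c := c)
  omega

/-- The subgroup contains all transvections over `F₀`. -/
def HasRat (F₀ : Subfield F) (L : Subgroup (GL ι F)) : Prop :=
  ∀ v φ : ι → F, IsRat F₀ v → IsRat F₀ φ → φ ⬝ᵥ v = 0 → tv v φ ∈ L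

variable {L : Subgroup (GL ι F)}

theorem comm_mem {v w φ ψ : ι → F} (hv : φ ⬝ᵥ v = 0) (hw : ψ ⬝ᵥ w = 0) (h1 : tv v φ ∈ L)
    (h2 : tv w ψ ∈ L) (h : ψ ⬝ᵥ v = 0) : tv v ((φ ⬝ᵥ w) • ψ) ∈ L :=
  (comm_mem_dualSet (M := L) (mem_dualSet.2 ⟨hv, h1⟩) (mem_dualSet.2 ⟨hw, h2⟩) h).2

/-- The scalars `c` such that all elementary transvections with entry `c` lie in `L`. -/
def elemSet (L : Subgroup (GL ι F)) : Set F :=
  {c | ∀ i j : ι, i ≠ j → tv (Pi.single i 1) (Pi.single j c) ∈ L}

theorem mem_elemSet_of_one (h3 : 3 ≤ Fintype.card ι) (hL : HasRat F₀ L) {k o : ι} (hko : k ≠ o)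
    {c : F} (h : tv (Pi.single k 1) (Pi.single o c) ∈ L) : c ∈ elemSet L := by
  have hd : ∀ i j : ι, i ≠ j → ∀ x : F, Pi.single j x ⬝ᵥ Pi.single i (1 : F) = 0 := fun i j hij x =>
    by simp [Pi.single_eq_of_ne hij]
  have hrat : ∀ i j : ι, i ≠ j → tv (Pi.single i 1) (Pi.single j (1 : F)) ∈ L := fun i j hij =>
    hL _ _ (isRat_single i (one_mem _)) (isRat_single j (one_mem _)) (hd i j hij 1)
  have left : ∀ i l j : ι, i ≠ l → l ≠ j → i ≠ j → ∀ x : F,
      tv (Pi.single l 1) (Pi.single j x) ∈ L → tv (Pi.single i 1) (Pi.single j x) ∈ L := by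
    intro i l j hil hlj hij x hx
    have := comm_mem (hd i l hil 1) (hd l j hlj x) (hrat i l hil) hx (hd i j hij x)
    simpa using this
  have right : ∀ i l j : ι, i ≠ l → l ≠ j → i ≠ j → ∀ x : F,
      tv (Pi.single i 1) (Pi.single l x) ∈ L → tv (Pi.single i 1) (Pi.single j x) ∈ L := by
    intro i l j hil hlj hij x hx
    have := comm_mem (hd i l hil x) (hd l j hlj 1) hx (hrat l j hlj) (hd i j hij 1)
    simpa [← Pi.single_smul] using this
  have hcol : ∀ i, i ≠ o → tv (Pi.single i 1) (Pi.single o c) ∈ L := by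
    intro i hio
    by_cases hik : i = k
    · subst hik; exact h
    · exact left i k o hik hko hio c h
  have hrest : ∀ i j, i ≠ o → i ≠ j → tv (Pi.single i 1) (Pi.single j c) ∈ L := by
    intro i j hio hij
    by_cases hjo : j = o
    · subst hjo; exact hcol i hio
    · exact right i o j hio (Ne.symm hjo) hij c (hcol i hio)
  intro i j hij
  by_cases hio : i = o
  · subst hio
    obtain ⟨l, hl1, hl2⟩ := exists_third h3 i j
    exact left i l j (Ne.symm hl1) hl2 hij c (hrest l j hl1 hl2)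
  · exact hrest i j hio hij

theorem specialLinear_le_of_elemSet (h : ∀ c : F, c ∈ elemSet L) :
    Geo.specialLinear ι F ≤ L := by
  intro g hg
  have hdet : (g : Matrix ι ι F).det = 1 := by
    have := congrArg Units.val (show Matrix.GeneralLinearGroup.det g = 1 from hg)
    simpa using this
  have htop : L.comap (Matrix.SpecialLinearGroup.toGL (n := ι) (R := F)) = ⊤ := by
    refine LinearGroup.eq_top_of_transvection_mem fun i j hij c => ?_
    rw [Subgroup.mem_comap]
    convert h c i j hij using 1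
    refine Units.ext ?_
    rw [tv_coe (by simp [Pi.single_eq_of_ne hij])]
    simp only [Matrix.SpecialLinearGroup.toGL, MonoidHom.coe_mk, OneHom.coe_mk]
    rw [Matrix.SpecialLinearGroup.transvection_coe]
    ext a b
    simp [vecMulVec, Matrix.single, Matrix.one_apply, Pi.single_apply]
    grind
  let A : Matrix.SpecialLinearGroup ι F := ⟨(g : Matrix ι ι F), hdet⟩
  have hm : A ∈ L.comap (Matrix.SpecialLinearGroup.toGL (n := ι) (R := F)) :=
    htop ▸ Subgroup.mem_top _
  rw [Subgroup.mem_comap] at hm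
  exact (show Matrix.SpecialLinearGroup.toGL A = g from Units.ext rfl) ▸ hm

section Finite

variable [Fintype F] (htop : ∀ T : Subfield F, F₀ ≤ T → T = F₀ ∨ T = ⊤)
  (h4 : 4 ≤ Fintype.card ι) (hL : HasRat F₀ L)

include htop h4 hL

theorem full_of_elem {k o : ι} (hko : k ≠ o) {c : F} (hc : c ∉ F₀)
    (h : tv (Pi.single k 1) (Pi.single o c) ∈ L) : Geo.specialLinear ι F ≤ L := by
  have hc' := mem_elemSet_of_one (by omega) hL hko h
  have hd : ∀ i j : ι, i ≠ j → ∀ x : F, Pi.single j x ⬝ᵥ Pi.single i (1 : F) = 0 := fun i j hij x =>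
    by simp [Pi.single_eq_of_ne hij]
  have hF₀ : ∀ x ∈ F₀, x ∈ elemSet L := fun x hx i j hij =>
    hL _ _ (isRat_single i (one_mem _)) (isRat_single j hx) (hd i j hij x)
  let R : Subring F :=
    { carrier := elemSet L
      one_mem' := hF₀ 1 (one_mem _)
      zero_mem' := hF₀ 0 (zero_mem _)
      mul_mem' := fun {x y} hx hy i j hij => by
        obtain ⟨l, hl1, hl2⟩ := exists_third (by omega) i j
        have := comm_mem (hd i l (Ne.symm hl1) x) (hd l j hl2 y) (hx i l (Ne.symm hl1))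
          (hy l j hl2) (hd i j hij y)
        simpa [← Pi.single_smul] using this
      add_mem' := fun {x y} hx hy i j hij => by
        rw [Pi.single_add, ← tv_mul_right (hd i j hij x) (hd i j hij y)]
        exact mul_mem (hx i j hij) (hy i j hij)
      neg_mem' := fun {x} hx i j hij => by
        rw [Pi.single_neg, ← tv_inv (hd i j hij x)]
        exact inv_mem (hx i j hij) }
  let T : Subfield F :=
    { R with
      inv_mem' := fun x hx => by
        rcases eq_or_ne x 0 with rfl | h0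
        · rw [_root_.inv_zero]; exact R.zero_mem
        · have h : x ^ (Fintype.card F - 2) = x⁻¹ := by
            have hq := Fintype.one_lt_card (α := F)
            apply eq_inv_of_mul_eq_one_left
            rw [← pow_succ, show Fintype.card F - 2 + 1 = Fintype.card F - 1 by omega,
              FiniteField.pow_card_sub_one_eq_one x h0]
          rw [← h]
          exact R.pow_mem hx _ }
  have hT : T = ⊤ := (htop T hF₀).resolve_left fun e => hc (e ▸ (hc' : c ∈ T))
  exact specialLinear_le_of_elemSet fun x => (hT ▸ Subfield.mem_top x : x ∈ T)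

theorem full_of_centre {e φ : ι → F} (he : IsRat F₀ e) (he0 : e ≠ 0) (h0 : φ ⬝ᵥ e = 0)
    (h : tv e φ ∈ L) {j : ι} (hj : φ j ∉ F₀) : Geo.specialLinear ι F ≤ L := by
  obtain ⟨l, hl⟩ := Function.ne_iff.1 he0
  obtain ⟨k, hkl, -⟩ := exists_third (by omega) l l
  obtain ⟨a, b, hab, haj, hak, hbj, hbk⟩ := exists_two_others h4 j k
  obtain ⟨η, hη, hη0, hηe, hsupp⟩ := exists_orth he hab
  rw [dotProduct_comm] at hηe
  have hηj : η ⬝ᵥ Pi.single j (1 : F) = 0 := by simp [hsupp j (Ne.symm haj) (Ne.symm hbj)]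
  have hηk : η ⬝ᵥ Pi.single k (1 : F) = 0 := by simp [hsupp k (Ne.symm hak) (Ne.symm hbk)]
  have h1 := comm_mem h0 hηj h (hL _ _ (isRat_single j (one_mem _)) hη hηj) hηe
  rw [show φ ⬝ᵥ Pi.single j (1 : F) = φ j by simp] at h1
  have hkl' : Pi.single l (1 : F) ⬝ᵥ Pi.single k (1 : F) = 0 := by simp [Pi.single_eq_of_ne hkl]
  have h2 := comm_mem hkl' (show (φ j • η) ⬝ᵥ e = 0 by simp [hηe])
    (hL _ _ (isRat_single k (one_mem _)) (isRat_single l (one_mem _)) hkl') h1
    (show (φ j • η) ⬝ᵥ Pi.single k (1 : F) = 0 by simp [smul_dotProduct, hsupp k (Ne.symm hak) (Ne.symm hbk)])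
  rw [show Pi.single l (1 : F) ⬝ᵥ e = e l by simp, smul_smul] at h2
  obtain ⟨m, hm⟩ := Function.ne_iff.1 hη0
  obtain ⟨o, hom, hok⟩ := exists_third (by omega) m k
  have hmo : Pi.single o (1 : F) ⬝ᵥ Pi.single m (1 : F) = 0 := by
    simp [Pi.single_eq_of_ne hom.symm]
  have h3 := comm_mem (show ((e l * φ j) • η) ⬝ᵥ Pi.single k (1 : F) = 0 by
      simp [smul_dotProduct, hsupp k (Ne.symm hak) (Ne.symm hbk)]) hmo h2
    (hL _ _ (isRat_single m (one_mem _)) (isRat_single o (one_mem _)) hmo)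
    (by simp [Pi.single_eq_of_ne hok.symm])
  rw [← Pi.single_smul, smul_eq_mul, mul_one,
    show ((e l * φ j) • η) ⬝ᵥ Pi.single m (1 : F) = e l * φ j * η m by simp] at h3
  refine full_of_elem htop h4 hL (Ne.symm hok) (fun hmem => hj ?_) h3
  have := div_mem (div_mem hmem (hη m)) (he l)
  simp only [Pi.zero_apply] at hm hl
  rwa [show e l * φ j * η m / η m / e l = φ j by field_simp] at this

theorem full_of_axis {u η : ι → F} (hη : IsRat F₀ η) (h0 : η ⬝ᵥ u = 0) (h : tv u η ∈ L)
    {l m : ι} (hlm : u l * η m ∉ F₀) : Geo.specialLinear ι F ≤ L := by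
  obtain ⟨a, b, hab, hal, -, hbl, -⟩ := exists_two_others h4 l l
  obtain ⟨e, he, he0, hηe, hsupp⟩ := exists_orth hη hab
  have hle : Pi.single l (1 : F) ⬝ᵥ e = 0 := by simp [hsupp l (Ne.symm hal) (Ne.symm hbl)]
  have h1 := comm_mem hle h0 (hL _ _ he (isRat_single l (one_mem _)) hle) h hηe
  refine full_of_centre htop h4 hL he he0 (by simp [hηe]) h1 (j := m) ?_
  simpa using hlm

theorem full_of_axis_rat {u ψ : ι → F} (hψ : IsRat F₀ ψ) (hψ0 : ψ ≠ 0) (h0 : ψ ⬝ᵥ u = 0)
    (c : F) (hc : c ≠ 0) (h : tv u (c • ψ) ∈ L)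
    (hu : ∀ s : F, s ≠ 0 → ¬ IsRat F₀ (s • u)) : Geo.specialLinear ι F ≤ L := by
  rw [← tv_smul_comm c h0] at h
  obtain ⟨m, hm⟩ := Function.ne_iff.1 hψ0
  obtain ⟨l, hl⟩ := not_forall.1 (hu c hc)
  refine full_of_axis htop h4 hL hψ (by simp [h0]) h (l := l) (m := m) fun hmem => hl ?_
  have := div_mem hmem (hψ m)
  rwa [mul_div_cancel_right₀ _ (by simpa using hm)] at this

theorem full_of_generic (h9 : 6 ≤ Fintype.card ι) (p : ℕ) [Fact p.Prime] [CharP F p] {r : ℕ}
    (hr : Nat.card F = Nat.card F₀ ^ r) {u φ : ι → F} (h0 : φ ⬝ᵥ u = 0) (h : tv u φ ∈ L)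
    (hφ : φ ≠ 0) (hind : ∀ ψ : ι → F, IsRat F₀ ψ → ψ ⬝ᵥ u = 0 → ψ = 0) :
    Geo.specialLinear ι F ≤ L := by
  obtain ⟨b, hb⟩ := Function.ne_iff.1 hφ
  simp only [Pi.zero_apply] at hb
  set e : ι → F := Pi.single b 1 with he
  have heR : IsRat F₀ e := isRat_single b (one_mem _)
  have he0 : e ≠ 0 := by simp [he]
  let W : AddSubgroup F :=
    { carrier := {s | ∃ η : ι → F, IsRat F₀ η ∧ η ⬝ᵥ e = 0 ∧ η ⬝ᵥ u = s}
      zero_mem' := ⟨0, fun _ => zero_mem _, zero_dotProduct _, zero_dotProduct _⟩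
      add_mem' := by
        rintro x y ⟨η, h1, h2, h3⟩ ⟨θ, h4, h5, h6⟩
        exact ⟨η + θ, fun i => add_mem (h1 i) (h4 i), by rw [add_dotProduct, h2, h5, add_zero],
          by rw [add_dotProduct, h3, h6]⟩
      neg_mem' := by
        rintro x ⟨η, h1, h2, h3⟩
        exact ⟨-η, fun i => neg_mem (h1 i), by rw [neg_dotProduct, h2, neg_zero],
          by rw [neg_dotProduct, h3]⟩ }
  -- sizes
  have hq₀ : 2 ≤ Nat.card F₀ := Finite.one_lt_card
  have hp2 : p ≤ Nat.card F₀ := by
    have : CharP F₀ p := F₀.subtype.charP Subtype.val_injective p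
    have := Fintype.ofFinite F₀
    obtain ⟨n, hn⟩ := FiniteField.card F₀ p
    rw [Nat.card_eq_fintype_card, hn.2]
    exact Nat.le_self_pow n.2.ne' p
  have hnr : Fintype.card ι ≤ r := by
    have := Nat.card_le_card_of_injective (fun f : ι → F₀ => (fun i => (f i : F)) ⬝ᵥ u)
      (fun f g hfg => by
        have := hind ((fun i => (f i : F)) - fun i => (g i : F))
          (fun i => sub_mem (f i).2 (g i).2) (by rw [sub_dotProduct]; exact sub_eq_zero.2 hfg)
        exact funext fun i => Subtype.ext (sub_eq_zero.1 (congrFun this i)))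
    rw [Nat.card_fun, hr, Nat.card_eq_fintype_card (α := ι)] at this
    exact (Nat.pow_le_pow_iff_right hq₀).1 this
  let ext : ({i // i ≠ b} → F₀) → ι → F := fun f i => if hi : i = b then 0 else (f ⟨i, hi⟩ : F)
  have hWcard : Nat.card W = Nat.card F₀ ^ (Fintype.card ι - 1) := by
    have key : Nat.card ({i // i ≠ b} → F₀) = Nat.card W := by
      refine Nat.card_congr (Equiv.ofBijective (fun f => (⟨ext f ⬝ᵥ u, ext f, fun i => ?_, ?_,
        rfl⟩ : W)) ⟨?_, ?_⟩)
      · simp only [ext]; split_ifs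
        · exact zero_mem _
        · exact SetLike.coe_mem _
      · simp [he, ext]
      · intro f g hfg
        have hfg' : ext f ⬝ᵥ u = ext g ⬝ᵥ u := congrArg Subtype.val hfg
        have := hind (ext f - ext g) (fun i => sub_mem (by
            simp only [ext]; split_ifs
            · exact zero_mem _
            · exact SetLike.coe_mem _) (by
            simp only [ext]; split_ifs
            · exact zero_mem _
            · exact SetLike.coe_mem _)) (by rw [sub_dotProduct, hfg', sub_self])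
        funext i
        have := sub_eq_zero.1 (congrFun this i.1)
        simp only [ext, dif_neg i.2] at this
        exact Subtype.ext this
      · rintro ⟨s, η, h1, h2, rfl⟩
        refine ⟨fun i => ⟨η i, h1 i⟩, Subtype.ext ?_⟩
        show ext (fun i : {i // i ≠ b} => (⟨η i, h1 i⟩ : F₀)) ⬝ᵥ u = η ⬝ᵥ u
        congr 1
        funext i
        simp only [ext]
        split_ifs with hi
        · subst hi; simpa [he] using h2.symm
        · rfl
    rw [← key, Nat.card_fun, Nat.card_eq_fintype_card (α := {i // i ≠ b}), Fintype.card_subtype_compl,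
      Fintype.card_subtype_eq]
  have h8 : Nat.card F₀ ^ 5 ≤ Nat.card W := by
    rw [hWcard]; exact Nat.pow_le_pow_right (by omega) (by omega)
  have h256 : 32 ≤ Nat.card W := le_trans (by simpa using Nat.pow_le_pow_left hq₀ 5) h8
  -- the group induced on the plane
  have hue : ∀ x y : F, x • e + y • u = 0 → x = 0 ∧ y = 0 := by
    intro x y hxy
    obtain ⟨i, hib, -⟩ := exists_third (by omega) b b
    have hui : u i ≠ 0 := fun hu0 => by
      have := hind (Pi.single i 1) (isRat_single i (one_mem _)) (by simp [hu0])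
      simp at this
    have hy : y = 0 := by
      have := congrFun hxy i
      simpa [he, Pi.single_eq_of_ne hib, hui] using this
    refine ⟨?_, hy⟩
    have := congrFun hxy b
    simpa [he, hy] using this
  let H : Subgroup SL(2, F) :=
    { carrier := {A | ∃ g ∈ L, (g : Matrix ι ι F) *ᵥ e = A 0 0 • e + A 1 0 • u ∧
        (g : Matrix ι ι F) *ᵥ u = A 0 1 • e + A 1 1 • u}
      one_mem' := ⟨1, one_mem _, by simp, by simp⟩
      mul_mem' := by
        rintro A B ⟨g, hg, g1, g2⟩ ⟨k, hk, k1, k2⟩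
        refine ⟨g * k, mul_mem hg hk, ?_, ?_⟩
        · rw [Units.val_mul, ← mulVec_mulVec, k1, mulVec_add, mulVec_smul, mulVec_smul, g1, g2]
          simp only [Matrix.SpecialLinearGroup.coe_mul, Matrix.mul_apply, Fin.sum_univ_two]
          module
        · rw [Units.val_mul, ← mulVec_mulVec, k2, mulVec_add, mulVec_smul, mulVec_smul, g1, g2]
          simp only [Matrix.SpecialLinearGroup.coe_mul, Matrix.mul_apply, Fin.sum_univ_two]
          module
      inv_mem' := by
        rintro A ⟨g, hg, g1, g2⟩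
        have hd := PLocalB.det_entries A
        have hinv : (A⁻¹ : SL(2, F)).1 = !![A 1 1, -A 0 1; -A 1 0, A 0 0] := by
          rw [Matrix.SpecialLinearGroup.coe_inv, Matrix.adjugate_fin_two]
        refine ⟨g⁻¹, inv_mem hg, mulVec_injective g ?_, mulVec_injective g ?_⟩
        · simp only [mulVec_inv_mulVec, mulVec_add, mulVec_smul, g1, g2, hinv]
          simp
          linear_combination (norm := module) -hd • e
        · simp only [mulVec_inv_mulVec, mulVec_add, mulVec_smul, g1, g2, hinv]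
          simp
          linear_combination (norm := module) -hd • u }
  have hup : ∀ s ∈ W, upper s ∈ H := by
    rintro s ⟨η, h1, h2, rfl⟩
    refine ⟨tv e η, hL e η heR h1 h2, ?_, ?_⟩
    · rw [tv_mulVec h2, h2]; simp
    · rw [tv_mulVec h2]; simp [add_comm]
  have hlow : lower (φ b) ∈ H := by
    refine ⟨tv u φ, h, ?_, ?_⟩
    · rw [tv_mulVec h0]; simp [he, lower]
    · rw [tv_mulVec h0, h0]; simp [lower]
  have hnr' : ∃ s ∈ W, φ b * s ∉ F₀ := by
    by_contra hall
    push Not at hall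
    have h1 : Nat.card W ≤ Nat.card F₀ := Nat.card_le_card_of_injective
      (fun s : W => (⟨φ b * s, hall s s.2⟩ : F₀))
      (fun s t hst => Subtype.ext (mul_left_cancel₀ hb (congrArg Subtype.val hst :)))
    have h3 : Nat.card F₀ ^ 1 < Nat.card F₀ ^ 5 := Nat.pow_lt_pow_right hq₀ (by norm_num)
    rw [pow_one] at h3
    omega
  have hfull := sl2_full p F₀ htop H W hup (by
      rintro c hc s ⟨η, h1, h2, rfl⟩
      exact ⟨c • η, fun i => mul_mem hc (h1 i), by simp [h2], by simp⟩) (by omega) (by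
      have h2 : 2 * p ≤ Nat.card F₀ ^ 2 := by
        rw [sq]; exact Nat.mul_le_mul hq₀ hp2
      have h3 : Nat.card F₀ ^ 2 < Nat.card F₀ ^ 5 := Nat.pow_lt_pow_right hq₀ (by norm_num)
      omega) hlow hnr'
  -- a torus element moves the group `W`
  obtain ⟨s₀, hs₀, hs0⟩ := hnr'
  have hs00 : s₀ ≠ 0 := fun e => hs0 (by rw [e, mul_zero]; exact zero_mem _)
  obtain ⟨c, hc0, hc⟩ : ∃ c : F, c ≠ 0 ∧ c ^ 2 * s₀ ∉ W := by
    by_contra hall
    push Not at hall
    have hsq : ∀ c : F, c ^ 2 * s₀ ∈ W := fun c => by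
      rcases eq_or_ne c 0 with rfl | hc
      · simp [W.zero_mem]
      · exact hall c hc
    have hevery : ∀ y : F, y * s₀ ∈ W := by
      intro y
      by_cases h2 : (2 : F) = 0
      · have : CharP F 2 := CharTwo.of_one_ne_zero_of_two_eq_zero one_ne_zero h2
        obtain ⟨z, hz⟩ := FiniteField.isSquare_of_char_two (ringChar.eq F 2) y
        rw [hz, ← sq]; exact hsq z
      · have := sub_mem (hsq ((y + 1) / 2)) (hsq ((y - 1) / 2))
        convert this using 1
        field_simp
        ring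
    have h1 : Nat.card F ≤ Nat.card W := Nat.card_le_card_of_injective
      (fun y : F => (⟨y * s₀, hevery y⟩ : W))
      (fun x y hxy => mul_right_cancel₀ hs00 (congrArg Subtype.val hxy :))
    rw [hWcard, hr] at h1
    have := (Nat.pow_le_pow_iff_right hq₀).1 h1
    omega
  obtain ⟨g, hg, ε, hε, hge, hgu⟩ : ∃ g ∈ L, ∃ ε : F, ε * ε = 1 ∧
      (g : Matrix ι ι F) *ᵥ e = (ε * c) • e ∧ (g : Matrix ι ι F) *ᵥ u = (ε * c⁻¹) • u := by
    let A : SL(2, F) := ⟨!![c, 0; 0, c⁻¹], by simp [Matrix.det_fin_two, hc0]⟩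
    rcases hfull A with ⟨g, hg, g1, g2⟩ | ⟨g, hg, g1, g2⟩
    · exact ⟨g, hg, 1, one_mul 1, by simpa [A] using g1, by simpa [A] using g2⟩
    · have e' : ((-A : SL(2, F)) : Matrix (Fin 2) (Fin 2) F) = -!![c, 0; 0, c⁻¹] :=
        Matrix.SpecialLinearGroup.coe_neg A
      rw [e'] at g1 g2
      exact ⟨g, hg, -1, by ring, by simpa using g1, by simpa using g2⟩
  obtain ⟨η, hη1, hη2, hη3⟩ := hs₀
  have hε0 : ε ≠ 0 := fun e => by simp [e] at hε
  have hgu' : ((g⁻¹ : GL ι F) : Matrix ι ι F) *ᵥ u = (ε * c) • u := by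
    refine mulVec_injective g ?_
    simp only [mulVec_inv_mulVec, mulVec_smul, hgu, smul_smul]
    rw [show ε * c * (ε * c⁻¹) = 1 by
      rw [mul_mul_mul_comm, hε, mul_inv_cancel₀ hc0, one_mul], one_smul]
  have hconj := mul_mem (mul_mem hg (hL e η heR hη1 hη2)) (inv_mem hg)
  rw [tv_conj g hη2, hge, tv_smul_comm] at hconj
  swap
  · have := vecMul_inv_dotProduct g η e
    rw [hge, dotProduct_smul, hη2, smul_eq_mul, mul_eq_zero] at this
    exact this.resolve_left (mul_ne_zero hε0 hc0)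
  set θ := (ε * c) • (η ᵥ* ((g⁻¹ : GL ι F) : Matrix ι ι F)) with hθ
  have hθe : θ ⬝ᵥ e = 0 := by
    have := vecMul_inv_dotProduct g η e
    rw [hge, dotProduct_smul, hη2] at this
    rw [hθ, smul_dotProduct]; exact this
  obtain ⟨j, hj⟩ : ∃ j, θ j ∉ F₀ := by
    by_contra hall
    push Not at hall
    refine hc ⟨θ, hall, hθe, ?_⟩
    rw [hθ, smul_dotProduct, ← dotProduct_mulVec, hgu', dotProduct_smul, hη3, smul_eq_mul,
      smul_eq_mul, ← mul_assoc, mul_mul_mul_comm, hε, one_mul, sq]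
  exact full_of_centre htop h4 hL heR he0 hθe hconj hj

theorem full_of_tv (h9 : 6 ≤ Fintype.card ι) {r : ℕ} (hr : Nat.card F = Nat.card F₀ ^ r)
    {u φ : ι → F} (h0 : φ ⬝ᵥ u = 0) (h : tv u φ ∈ L) {i j : ι} (hij : u i * φ j ∉ F₀) :
    Geo.specialLinear ι F ≤ L := by
  have hui : u i ≠ 0 := fun e => hij (by rw [e, zero_mul]; exact zero_mem _)
  have hφ : φ ≠ 0 := fun e => hij (by rw [e, Pi.zero_apply, mul_zero]; exact zero_mem _)
  by_cases hA : ∃ s : F, s ≠ 0 ∧ IsRat F₀ (s • u)
  · obtain ⟨s, hs, hrat⟩ := hA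
    have h' : tv (s • u) (s⁻¹ • φ) ∈ L := by
      rwa [tv_smul_comm s (by simp [h0]), smul_smul, mul_inv_cancel₀ hs, one_smul]
    refine full_of_centre htop h4 hL hrat (fun e => hui ?_) (by simp [h0]) h' (j := j) fun hm => hij ?_
    · simpa [hs] using congrFun e i
    · have := mul_mem (hrat i) hm
      simp only [Pi.smul_apply, smul_eq_mul] at this
      rwa [mul_mul_mul_comm, mul_inv_cancel₀ hs, one_mul] at this
  push Not at hA
  by_cases hB : ∃ ψ : ι → F, IsRat F₀ ψ ∧ ψ ≠ 0 ∧ ψ ⬝ᵥ u = 0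
  · obtain ⟨ψ, hψ, hψ0, hψu⟩ := hB
    by_cases hB' : ∃ e : ι → F, IsRat F₀ e ∧ ψ ⬝ᵥ e = 0 ∧ φ ⬝ᵥ e ≠ 0
    · obtain ⟨e, he, hψe, hφe⟩ := hB'
      exact full_of_axis_rat htop h4 hL hψ hψ0 hψu _ hφe
        (comm_mem h0 hψe h (hL e ψ he hψ hψe) hψu) hA
    · push Not at hB'
      obtain ⟨m, hm⟩ := Function.ne_iff.1 hψ0
      simp only [Pi.zero_apply] at hm
      have hprop : φ = (φ m / ψ m) • ψ := by
        funext l
        have := hB' (Pi.single l (ψ m) - Pi.single m (ψ l))
          (fun x => sub_mem (isRat_single l (hψ m) x) (isRat_single m (hψ l) x))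
          (by simp [dotProduct_sub, mul_comm])
        simp [dotProduct_sub, sub_eq_zero] at this
        simp only [Pi.smul_apply, smul_eq_mul]
        field_simp
        linear_combination this
      have hcne : φ m / ψ m ≠ 0 := fun e => hφ (by rw [hprop, e, zero_smul])
      exact full_of_axis_rat htop h4 hL hψ hψ0 hψu _ hcne (hprop ▸ h) hA
  · push Not at hB
    obtain ⟨p, hp⟩ := CharP.exists F
    have : Fact p.Prime := ⟨CharP.char_is_prime F p⟩
    exact full_of_generic htop h4 hL h9 p hr h0 h hφ fun ψ h1 h2 => by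
      by_contra h3
      exact hB ψ h1 h3 h2

end Finite

/-- An element that conjugates every rational transvection to a rational one is rational up
to a scalar. -/
theorem rational_of_conj (h3 : 3 ≤ Fintype.card ι) (g : GL ι F)
    (h : ∀ i j a c : ι, i ≠ j →
      (g : Matrix ι ι F) a i * ((g⁻¹ : GL ι F) : Matrix ι ι F) j c ∈ F₀) :
    ∃ s : F, s ≠ 0 ∧ ∀ a b, (g : Matrix ι ι F) a b / s ∈ F₀ := by
  have hcolne : ∀ i, ∃ a, (g : Matrix ι ι F) a i ≠ 0 := by
    intro i
    by_contra h'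
    push Not at h'
    refine mulVec_ne_zero g (v := Pi.single i 1) (by simp) ?_
    funext a; simpa using h' a
  have hrowne : ∀ j, ∃ c, ((g⁻¹ : GL ι F) : Matrix ι ι F) j c ≠ 0 := by
    intro j
    by_contra h'
    push Not at h'
    have := congrFun (congrFun (Units.inv_mul g) j) j
    rw [Matrix.mul_apply] at this
    simp [h'] at this
  obtain ⟨i₀⟩ : Nonempty ι := Fintype.card_pos_iff.1 (by omega)
  obtain ⟨a₀, ha₀⟩ := hcolne i₀
  refine ⟨(g : Matrix ι ι F) a₀ i₀, ha₀, fun a b => ?_⟩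
  obtain ⟨j, hj0, hjb⟩ := exists_third h3 i₀ b
  obtain ⟨c, hc⟩ := hrowne j
  have h1 := h i₀ j a₀ c hj0.symm
  have h2 := h b j a c hjb.symm
  have := div_mem h2 h1
  rwa [mul_div_mul_right _ _ hc] at this

end Cfsg.Agent.MaxSub.SubfieldMax
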